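/-
The fixed points of the element of order 13 on a range of points.
-/
import Cfsg.Agent.Lib.Spor.M24Model.Thirteen.Scan

namespace CfsgLib.Spor.M24Model.Thirteen

open CfsgLib.Spor.TC CfsgLib.Spor.Fi24

set_option maxRecDepth 100000
set_option Elab.async false

theorem fix0 : RangeTest fixOK 0 4000 := RangeTest.of_check (by decide +kernel)

theorem fix4000 : RangeTest fixOK 4000 8000 := RangeTest.of_check (by decide +kernel)

theorem fix8000 : RangeTest fixOK 8000 12000 := RangeTest.of_check (by decide +kernel)

theorem fix12000 : RangeTest fixOK 12000 16000 := RangeTest.of_check (by decide +kernel)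

theorem fix16000 : RangeTest fixOK 16000 20000 := RangeTest.of_check (by decide +kernel)

theorem fix20000 : RangeTest fixOK 20000 24000 := RangeTest.of_check (by decide +kernel)

theorem fix24000 : RangeTest fixOK 24000 28000 := RangeTest.of_check (by decide +kernel)

theorem fix28000 : RangeTest fixOK 28000 32000 := RangeTest.of_check (by decide +kernel)

theorem fix32000 : RangeTest fixOK 32000 36000 := RangeTest.of_check (by decide +kernel)

theorem fix36000 : RangeTest fixOK 36000 40000 := RangeTest.of_check (by decide +kernel)

theorem fix40000 : RangeTest fixOK 40000 44000 := RangeTest.of_check (by decide +kernel)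

theorem fixBlock0 : RangeTest fixOK 0 44000 := ((((((((((fix0).append fix4000).append fix8000).append fix12000).append fix16000).append fix20000).append fix24000).append fix28000).append fix32000).append fix36000).append fix40000

end CfsgLib.Spor.M24Model.Thirteen
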