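/-
The fixed points of the element of order 13 on a range of points.
-/
import Cfsg.Agent.Lib.Spor.M24Model.Thirteen.Scan

namespace CfsgLib.Spor.M24Model.Thirteen

open CfsgLib.Spor.TC CfsgLib.Spor.Fi24

set_option maxRecDepth 100000
set_option Elab.async false

theorem fix44000 : RangeTest fixOK 44000 48000 := RangeTest.of_check (by decide +kernel)

theorem fix48000 : RangeTest fixOK 48000 52000 := RangeTest.of_check (by decide +kernel)

theorem fix52000 : RangeTest fixOK 52000 56000 := RangeTest.of_check (by decide +kernel)

theorem fix56000 : RangeTest fixOK 56000 60000 := RangeTest.of_check (by decide +kernel)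

theorem fix60000 : RangeTest fixOK 60000 64000 := RangeTest.of_check (by decide +kernel)

theorem fix64000 : RangeTest fixOK 64000 68000 := RangeTest.of_check (by decide +kernel)

theorem fix68000 : RangeTest fixOK 68000 72000 := RangeTest.of_check (by decide +kernel)

theorem fix72000 : RangeTest fixOK 72000 76000 := RangeTest.of_check (by decide +kernel)

theorem fix76000 : RangeTest fixOK 76000 80000 := RangeTest.of_check (by decide +kernel)

theorem fix80000 : RangeTest fixOK 80000 84000 := RangeTest.of_check (by decide +kernel)

theorem fix84000 : RangeTest fixOK 84000 88000 := RangeTest.of_check (by decide +kernel)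

theorem fixBlock1 : RangeTest fixOK 44000 88000 := ((((((((((fix44000).append fix48000).append fix52000).append fix56000).append fix60000).append fix64000).append fix68000).append fix72000).append fix76000).append fix80000).append fix84000

end CfsgLib.Spor.M24Model.Thirteen
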