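/-
The fixed points of the element of order 13 on a range of points.
-/
import Cfsg.Agent.Lib.Spor.M24Model.Thirteen.Scan

namespace CfsgLib.Spor.M24Model.Thirteen

open CfsgLib.Spor.TC CfsgLib.Spor.Fi24

set_option maxRecDepth 100000
set_option Elab.async false

theorem fix88000 : RangeTest fixOK 88000 92000 := RangeTest.of_check (by decide +kernel)

theorem fix92000 : RangeTest fixOK 92000 96000 := RangeTest.of_check (by decide +kernel)

theorem fix96000 : RangeTest fixOK 96000 100000 := RangeTest.of_check (by decide +kernel)

theorem fix100000 : RangeTest fixOK 100000 104000 := RangeTest.of_check (by decide +kernel)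

theorem fix104000 : RangeTest fixOK 104000 108000 := RangeTest.of_check (by decide +kernel)

theorem fix108000 : RangeTest fixOK 108000 112000 := RangeTest.of_check (by decide +kernel)

theorem fix112000 : RangeTest fixOK 112000 116000 := RangeTest.of_check (by decide +kernel)

theorem fix116000 : RangeTest fixOK 116000 120000 := RangeTest.of_check (by decide +kernel)

theorem fix120000 : RangeTest fixOK 120000 124000 := RangeTest.of_check (by decide +kernel)

theorem fix124000 : RangeTest fixOK 124000 128000 := RangeTest.of_check (by decide +kernel)

theorem fix128000 : RangeTest fixOK 128000 132000 := RangeTest.of_check (by decide +kernel)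

theorem fixBlock2 : RangeTest fixOK 88000 132000 := ((((((((((fix88000).append fix92000).append fix96000).append fix100000).append fix104000).append fix108000).append fix112000).append fix116000).append fix120000).append fix124000).append fix128000

end CfsgLib.Spor.M24Model.Thirteen
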