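/-
The fixed points of the element of order 13 on a range of points.
-/
import Cfsg.Agent.Lib.Spor.M24Model.Thirteen.Scan

namespace CfsgLib.Spor.M24Model.Thirteen

open CfsgLib.Spor.TC CfsgLib.Spor.Fi24

set_option maxRecDepth 100000
set_option Elab.async false

theorem fix132000 : RangeTest fixOK 132000 136000 := RangeTest.of_check (by decide +kernel)

theorem fix136000 : RangeTest fixOK 136000 140000 := RangeTest.of_check (by decide +kernel)

theorem fix140000 : RangeTest fixOK 140000 144000 := RangeTest.of_check (by decide +kernel)

theorem fix144000 : RangeTest fixOK 144000 148000 := RangeTest.of_check (by decide +kernel)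

theorem fix148000 : RangeTest fixOK 148000 152000 := RangeTest.of_check (by decide +kernel)

theorem fix152000 : RangeTest fixOK 152000 156000 := RangeTest.of_check (by decide +kernel)

theorem fix156000 : RangeTest fixOK 156000 160000 := RangeTest.of_check (by decide +kernel)

theorem fix160000 : RangeTest fixOK 160000 164000 := RangeTest.of_check (by decide +kernel)

theorem fix164000 : RangeTest fixOK 164000 168000 := RangeTest.of_check (by decide +kernel)

theorem fix168000 : RangeTest fixOK 168000 172000 := RangeTest.of_check (by decide +kernel)

theorem fix172000 : RangeTest fixOK 172000 176000 := RangeTest.of_check (by decide +kernel)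

theorem fixBlock3 : RangeTest fixOK 132000 176000 := ((((((((((fix132000).append fix136000).append fix140000).append fix144000).append fix148000).append fix152000).append fix156000).append fix160000).append fix164000).append fix168000).append fix172000

end CfsgLib.Spor.M24Model.Thirteen
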