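/-
The fixed points of the element of order 13 on a range of points.
-/
import Cfsg.Agent.Lib.Spor.M24Model.Thirteen.Scan

namespace CfsgLib.Spor.M24Model.Thirteen

open CfsgLib.Spor.TC CfsgLib.Spor.Fi24

set_option maxRecDepth 100000
set_option Elab.async false

theorem fix176000 : RangeTest fixOK 176000 180000 := RangeTest.of_check (by decide +kernel)

theorem fix180000 : RangeTest fixOK 180000 184000 := RangeTest.of_check (by decide +kernel)

theorem fix184000 : RangeTest fixOK 184000 188000 := RangeTest.of_check (by decide +kernel)

theorem fix188000 : RangeTest fixOK 188000 192000 := RangeTest.of_check (by decide +kernel)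

theorem fix192000 : RangeTest fixOK 192000 196000 := RangeTest.of_check (by decide +kernel)

theorem fix196000 : RangeTest fixOK 196000 200000 := RangeTest.of_check (by decide +kernel)

theorem fix200000 : RangeTest fixOK 200000 204000 := RangeTest.of_check (by decide +kernel)

theorem fix204000 : RangeTest fixOK 204000 208000 := RangeTest.of_check (by decide +kernel)

theorem fix208000 : RangeTest fixOK 208000 212000 := RangeTest.of_check (by decide +kernel)

theorem fix212000 : RangeTest fixOK 212000 216000 := RangeTest.of_check (by decide +kernel)

theorem fix216000 : RangeTest fixOK 216000 220000 := RangeTest.of_check (by decide +kernel)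

theorem fixBlock4 : RangeTest fixOK 176000 220000 := ((((((((((fix176000).append fix180000).append fix184000).append fix188000).append fix192000).append fix196000).append fix200000).append fix204000).append fix208000).append fix212000).append fix216000

end CfsgLib.Spor.M24Model.Thirteen
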