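/-
The fixed points of the element of order 13 on a range of points.
-/
import Cfsg.Agent.Lib.Spor.M24Model.Thirteen.Scan

namespace CfsgLib.Spor.M24Model.Thirteen

open CfsgLib.Spor.TC CfsgLib.Spor.Fi24

set_option maxRecDepth 100000
set_option Elab.async false

theorem fix220000 : RangeTest fixOK 220000 224000 := RangeTest.of_check (by decide +kernel)

theorem fix224000 : RangeTest fixOK 224000 228000 := RangeTest.of_check (by decide +kernel)

theorem fix228000 : RangeTest fixOK 228000 232000 := RangeTest.of_check (by decide +kernel)

theorem fix232000 : RangeTest fixOK 232000 236000 := RangeTest.of_check (by decide +kernel)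

theorem fix236000 : RangeTest fixOK 236000 240000 := RangeTest.of_check (by decide +kernel)

theorem fix240000 : RangeTest fixOK 240000 244000 := RangeTest.of_check (by decide +kernel)

theorem fix244000 : RangeTest fixOK 244000 248000 := RangeTest.of_check (by decide +kernel)

theorem fix248000 : RangeTest fixOK 248000 252000 := RangeTest.of_check (by decide +kernel)

theorem fix252000 : RangeTest fixOK 252000 256000 := RangeTest.of_check (by decide +kernel)

theorem fix256000 : RangeTest fixOK 256000 260000 := RangeTest.of_check (by decide +kernel)

theorem fix260000 : RangeTest fixOK 260000 264000 := RangeTest.of_check (by decide +kernel)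

theorem fixBlock5 : RangeTest fixOK 220000 264000 := ((((((((((fix220000).append fix224000).append fix228000).append fix232000).append fix236000).append fix240000).append fix244000).append fix248000).append fix252000).append fix256000).append fix260000

end CfsgLib.Spor.M24Model.Thirteen
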