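/-
The fixed points of the element of order 13 on a range of points.
-/
import Cfsg.Agent.Lib.Spor.M24Model.Thirteen.Scan

namespace CfsgLib.Spor.M24Model.Thirteen

open CfsgLib.Spor.TC CfsgLib.Spor.Fi24

set_option maxRecDepth 100000
set_option Elab.async false

theorem fix264000 : RangeTest fixOK 264000 268000 := RangeTest.of_check (by decide +kernel)

theorem fix268000 : RangeTest fixOK 268000 272000 := RangeTest.of_check (by decide +kernel)

theorem fix272000 : RangeTest fixOK 272000 276000 := RangeTest.of_check (by decide +kernel)

theorem fix276000 : RangeTest fixOK 276000 280000 := RangeTest.of_check (by decide +kernel)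

theorem fix280000 : RangeTest fixOK 280000 284000 := RangeTest.of_check (by decide +kernel)

theorem fix284000 : RangeTest fixOK 284000 288000 := RangeTest.of_check (by decide +kernel)

theorem fix288000 : RangeTest fixOK 288000 292000 := RangeTest.of_check (by decide +kernel)

theorem fix292000 : RangeTest fixOK 292000 296000 := RangeTest.of_check (by decide +kernel)

theorem fix296000 : RangeTest fixOK 296000 300000 := RangeTest.of_check (by decide +kernel)

theorem fix300000 : RangeTest fixOK 300000 304000 := RangeTest.of_check (by decide +kernel)

theorem fix304000 : RangeTest fixOK 304000 306936 := RangeTest.of_check (by decide +kernel)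

theorem fixBlock6 : RangeTest fixOK 264000 306936 := ((((((((((fix264000).append fix268000).append fix272000).append fix276000).append fix280000).append fix284000).append fix288000).append fix292000).append fix296000).append fix300000).append fix304000

end CfsgLib.Spor.M24Model.Thirteen
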