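/-
All fixed points of the element of order 13.
-/
import Cfsg.Agent.Lib.Spor.M24Model.Thirteen.Fix0
import Cfsg.Agent.Lib.Spor.M24Model.Thirteen.Fix1
import Cfsg.Agent.Lib.Spor.M24Model.Thirteen.Fix2
import Cfsg.Agent.Lib.Spor.M24Model.Thirteen.Fix3
import Cfsg.Agent.Lib.Spor.M24Model.Thirteen.Fix4
import Cfsg.Agent.Lib.Spor.M24Model.Thirteen.Fix5
import Cfsg.Agent.Lib.Spor.M24Model.Thirteen.Fix6

namespace CfsgLib.Spor.M24Model.Thirteen

open CfsgLib.Spor.TC

theorem fix_range : RangeTest fixOK 0 306936 := ((((((fixBlock0).append fixBlock1).append fixBlock2).append fixBlock3).append fixBlock4).append fixBlock5).append fixBlock6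

end CfsgLib.Spor.M24Model.Thirteen
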