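/-
The normalizer of an element of order 13.
-/
import Cfsg.Agent.Lib.Spor.M24Model.Thirteen.Group
import Cfsg.Agent.Lib.Spor.M24Model.Thirteen.FixAll
import Cfsg.Agent.Lib.Spor.M24Model.Frobenius
import Cfsg.Agent.Lib.Spor.M24Model.PrimeNormalizer

set_option autoImplicit false

namespace CfsgLib.Spor.M24Model.Thirteen

open CfsgLib.Spor.TC CfsgLib.Spor.Fi24 CfsgLib.Spor.Fi24Class CfsgLib.GTwoThree

set_option maxRecDepth 100000

/-- The six points. -/
def sixPt (i : Fin 6) : Fin nPts :=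
  ⟨six.getD i.1 0, (show ∀ i : Fin 6, six.getD i.1 0 < nPts by decide) i⟩

theorem sixPt_injective : Function.Injective sixPt := fun i j h => by
  have h' : six.getD i.1 0 = six.getD j.1 0 := congrArg Fin.val h
  revert i j
  decide

/-- The word of one of the six points. -/
def sixPath (i : Fin 6) : List ℕ := (sixWords.getD i.1 []).take (((sixWords.getD i.1 []).length - 1) / 2)

/-- The commutation of the six transpositions: those of different triangles, and each with itself. -/
def com (i j : Fin 6) : Bool := decide (i.1 / 3 ≠ j.1 / 3 ∨ i = j)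

theorem six_checks : ∀ i : Fin 6, (allBelow 12 (sixPath i) && Nat.beq (walk (sixPath i) 0) (six.getD i.1 0) &&
    Nat.beq (walk bWord (six.getD i.1 0)) (six.getD i.1 0)) = true ∧
    ∀ j : Fin 6, commT (sixPath i) (six.getD j.1 0) = com i j := by decide +kernel

theorem commute_six (i j : Fin 6) : Commute (trp (sixPt i)) (trp (sixPt j)) ↔ com i j = true := by
  obtain ⟨h, hc⟩ := six_checks i
  simp only [Bool.and_eq_true, Nat.beq_eq] at h
  rw [commute_iff (allBelow_spec h.1.1) (p := sixPt i) h.1.2.symm, ← hc j]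
  rfl

/-- The element of order 13. -/
noncomputable def b₀ : X₀ := el bWord

theorem b_lt : ∀ a ∈ bWord, a < 12 := by decide

theorem b_fix_six (i : Fin 6) : rho b₀ (sixPt i) = sixPt i := by
  obtain ⟨h, -⟩ := six_checks i
  simp only [Bool.and_eq_true, Nat.beq_eq] at h
  exact Fin.ext ((rho_el_val b_lt _).trans h.2)

theorem b_fix_iff (p : Fin nPts) : rho b₀ p = p ↔ p ∈ Set.range sixPt := by
  constructor
  · intro h
    have hw : walk bWord p = p := (rho_el_val b_lt p).symm.trans (congrArg Fin.val h)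
    have hm := fixOK_spec (fix_range p (Nat.zero_le _) p.2) hw
    obtain ⟨i, hi, e⟩ := List.mem_iff_getElem.1 hm
    exact ⟨⟨i, hi⟩, Fin.ext ((List.getD_eq_getElem _ _ hi).trans e)⟩
  · rintro ⟨i, rfl⟩
    exact b_fix_six i

theorem quad_subset : quad = sixPt '' {0, 2, 3, 4} := by
  simp only [Set.image_insert_eq, Set.image_singleton, quad]
  ext p
  simp only [Set.mem_insert_iff, Set.mem_singleton_iff]
  constructor
  · rintro (rfl | rfl | rfl | rfl)
    · exact Or.inr (Or.inr (Or.inr (Fin.ext rfl)))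
    · exact Or.inr (Or.inr (Or.inl (Fin.ext rfl)))
    · exact Or.inr (Or.inl (Fin.ext rfl))
    · exact Or.inl (Fin.ext rfl)
  · rintro (rfl | rfl | rfl | rfl)
    · exact Or.inr (Or.inr (Or.inr (Fin.ext rfl)))
    · exact Or.inr (Or.inr (Or.inl (Fin.ext rfl)))
    · exact Or.inr (Or.inl (Fin.ext rfl))
    · exact Or.inl (Fin.ext rfl)

/-- The common centralizer. -/
noncomputable def K₀ : Subgroup X₀ := fixer quad

theorem triangle_checks : moveT (sixPath 0) (six.getD 2 0) = six.getD 1 0 ∧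
    moveT (sixPath 3) (six.getD 4 0) = six.getD 5 0 := by decide +kernel

theorem K_fix_six {g : X₀} (hg : g ∈ K₀) (i : Fin 6) : rho g (sixPt i) = sixPt i := by
  have hq : ∀ j : Fin 6, j = 0 ∨ j = 2 ∨ j = 3 ∨ j = 4 → rho g (sixPt j) = sixPt j := fun j hj =>
    hg _ (quad_subset ▸ ⟨j, by simpa using hj, rfl⟩)
  have hmove : ∀ a c d : Fin 6, moveT (sixPath a) (six.getD c.1 0) = six.getD d.1 0 →
      rho (trp (sixPt a)) (sixPt c) = sixPt d := by
    intro a c d h
    obtain ⟨h', -⟩ := six_checks a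
    simp only [Bool.and_eq_true, Nat.beq_eq] at h'
    exact Fin.ext ((rho_trp_val (allBelow_spec h'.1.1) (p := sixPt a) h'.1.2.symm _).trans h)
  fin_cases i
  · exact hq 0 (by simp)
  · have e := hmove 0 2 1 triangle_checks.1
    rw [show (⟨1, _⟩ : Fin 6) = 1 from rfl, ← e]
    exact fix_move (hq 0 (by simp)) (hq 2 (by simp))
  · exact hq 2 (by simp)
  · exact hq 3 (by simp)
  · exact hq 4 (by simp)
  · have e := hmove 3 4 5 triangle_checks.2
    rw [show (⟨5, _⟩ : Fin 6) = 5 from rfl, ← e]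
    exact fix_move (hq 3 (by simp)) (hq 4 (by simp))

theorem K_iso : Nonempty (K₀ ≃* G3) := fixer_iso

theorem card_K : Nat.card K₀ = 4245696 := by
  obtain ⟨e⟩ := K_iso
  rw [Nat.card_congr e.toEquiv, card_G3]
  norm_num

theorem order_b : orderOf b₀ = 13 := by
  haveI : Fact (Nat.Prime 13) := ⟨by norm_num⟩
  refine orderOf_eq_prime ?_ fun h => ?_
  · rw [b₀, el, ← ev_powWord]
    exact el_one (show ∀ a ∈ powWord bWord 13, a < 12 by decide +kernel) (by decide +kernel)
  · have e := congrArg (fun g => (rho g (⟨3, by norm_num⟩ : Fin nPts) : ℕ)) h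
    simp only [map_one, Equiv.Perm.one_apply, b₀, rho_el_val b_lt] at e
    exact (show walk bWord 3 ≠ 3 by decide +kernel) e

theorem b_mem_K : b₀ ∈ K₀ := by
  intro p hp
  rw [quad_subset] at hp
  obtain ⟨i, -, rfl⟩ := hp
  exact b_fix_six i

theorem centralizer_in_K {x : X₀} (hx : x ∈ K₀) (hc : Commute x b₀) : x ∈ Subgroup.zpowers b₀ := by
  haveI : Fact (Nat.Prime 13) := ⟨by norm_num⟩
  haveI : Finite G3 := Nat.finite_of_card_ne_zero (by rw [card_G3]; norm_num)
  obtain ⟨e⟩ := K_iso
  set y : G3 := e ⟨b₀, b_mem_K⟩ with hy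
  have hoy : orderOf y = 13 := by
    rw [hy, ← order_b, MulEquiv.orderOf_eq e]
    exact (orderOf_injective K₀.subtype Subtype.val_injective _).symm
  obtain ⟨g, hg⟩ := exists_conj_of_prime_card (p := 13) (by rw [card_G3]; norm_num)
    (A := Subgroup.zpowers (wordElt word13)) (B := Subgroup.zpowers y)
    (by rw [Nat.card_zpowers, order_thirteen]) (by rw [Nat.card_zpowers, hoy])
  have hcy : Commute (e ⟨x, hx⟩) y := Commute.map (show Commute (⟨x, hx⟩ : K₀) ⟨b₀, b_mem_K⟩ from Subtype.ext hc) e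
  have hmem : e ⟨x, hx⟩ ∈ Subgroup.zpowers y := by
    have hw : g * wordElt word13 * g⁻¹ ∈ Subgroup.zpowers y := by
      rw [← hg]; exact ⟨_, Subgroup.mem_zpowers _, rfl⟩
    obtain ⟨j, hj⟩ := hw
    have hcw : Commute (g⁻¹ * e ⟨x, hx⟩ * g) (wordElt word13) := by
      have h := (hcy.zpow_right j).map (MulAut.conj g⁻¹).toMonoidHom
      rw [show y ^ j = g * wordElt word13 * g⁻¹ from hj] at h
      simpa [mul_assoc] using h
    obtain ⟨k, hk⟩ := cent_thirteen hcw
    rw [← hg]
    exact ⟨_, ⟨k, hk⟩, by simp [mul_assoc]⟩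
  obtain ⟨k, hk⟩ := hmem
  refine ⟨k, ?_⟩
  have h2 : (⟨b₀, b_mem_K⟩ : K₀) ^ k = ⟨x, hx⟩ := e.injective (by rw [map_zpow]; exact hk)
  exact congrArg Subtype.val h2

/-- The subgroup of order 13. -/
noncomputable def B₀ : Subgroup X₀ := Subgroup.zpowers b₀

/-- Its normalizer. -/
noncomputable def N₀ : Subgroup X₀ := Subgroup.normalizer (B₀ : Set X₀)

theorem normalizer_perm : ∃ π : N₀ →* Equiv.Perm (Fin 6), ∀ (n : N₀) i, rho (n : X₀) (sixPt i) = sixPt (π n i) := by
  haveI := finite_X
  refine exists_numbering (rho.comp N₀.subtype) sixPt sixPt_injective Subgroup.closure_univ ?_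
  rintro ⟨n, hn⟩ - i
  have hc : n⁻¹ * b₀ * n ∈ B₀ := by
    have h := (Subgroup.mem_normalizer_iff.1 (inv_mem hn) b₀).1 (Subgroup.mem_zpowers b₀)
    simpa using h
  obtain ⟨j, hj⟩ := hc
  have hfix : rho (b₀ ^ j) (sixPt i) = sixPt i := by
    rw [map_zpow]
    exact Equiv.Perm.zpow_apply_eq_self_of_apply_eq_self (b_fix_six i) j
  rw [show b₀ ^ j = n⁻¹ * b₀ * n from hj] at hfix
  have h : rho b₀ (rho n (sixPt i)) = rho n (sixPt i) := by
    conv_rhs => rw [← hfix, ← rho_mul, show n * (n⁻¹ * b₀ * n) = b₀ * n by group, rho_mul]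
  obtain ⟨k, hk⟩ := (b_fix_iff _).1 h
  exact ⟨k, hk.symm⟩

/-- The permutation of the six points. -/
noncomputable def sixHom : N₀ →* Equiv.Perm (Fin 6) := normalizer_perm.choose

theorem sixHom_spec (n : N₀) (i : Fin 6) : rho (n : X₀) (sixPt i) = sixPt (sixHom n i) :=
  normalizer_perm.choose_spec n i

theorem ker_iff (n : N₀) : sixHom n = 1 ↔ (n : X₀) ∈ K₀ := by
  constructor
  · intro h p hp
    rw [quad_subset] at hp
    obtain ⟨i, -, rfl⟩ := hp
    rw [sixHom_spec, h]
    rfl
  · intro h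
    exact Equiv.ext fun i => sixPt_injective ((sixHom_spec n i).symm.trans (K_fix_six h i))

theorem keeps_com (n : N₀) (i j : Fin 6) : com (sixHom n i) (sixHom n j) = com i j := by
  rw [Bool.eq_iff_iff, ← commute_six, ← commute_six, ← sixHom_spec, ← sixHom_spec, trp_smul, trp_smul]
  exact Commute.conj_iff _

/-- The permutations keeping the two triangles, or exchanging them. -/
abbrev Good (s : Equiv.Perm (Fin 6)) : Prop := ∀ i j, com (s i) (s j) = com i j

/-- Those keeping each. -/
abbrev Keep (s : Equiv.Perm (Fin 6)) : Prop := ∀ i : Fin 6, (s i).1 / 3 = i.1 / 3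

instance : DecidablePred Good := fun s => inferInstanceAs (Decidable (∀ i j, com (s i) (s j) = com i j))

theorem counts : (Finset.univ.filter fun s : Equiv.Perm (Fin 6) => Good s).card = 72 ∧
    (Finset.univ.filter fun s : Equiv.Perm (Fin 6) => Keep s).card = 36 := by decide +kernel

/-- The four transposition generators. -/
def fourIdx : Fin 4 → Fin 6 := ![0, 2, 3, 4]

/-- Their permutations. -/
def fourPerm : Fin 4 → Equiv.Perm (Fin 6) := ![Equiv.swap 1 2, Equiv.swap 0 1, Equiv.swap 4 5, Equiv.swap 3 5]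

theorem four_checks : ∀ k : Fin 4, ∀ i : Fin 6,
    Nat.beq (moveT (sixPath (fourIdx k)) (six.getD i.1 0)) (six.getD (fourPerm k i).1 0) = true := by
  decide +kernel

theorem keep_words : ∀ i j : Fin 6, ∀ s : Equiv.Perm (Fin 6), Keep s → s 0 = i → s 3 = j →
    ∃ a b c d e f : Fin 5, s = (Fin.cons 1 fourPerm : Fin 5 → _) a * (Fin.cons 1 fourPerm : Fin 5 → _) b *
      (Fin.cons 1 fourPerm : Fin 5 → _) c * (Fin.cons 1 fourPerm : Fin 5 → _) d *
      (Fin.cons 1 fourPerm : Fin 5 → _) e * (Fin.cons 1 fourPerm : Fin 5 → _) f := by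
  decide +kernel

/-- The group of the two pairs. -/
noncomputable def T₀ : Subgroup X₀ := Subgroup.closure (Set.range fun k : Fin 4 => trp (sixPt (fourIdx k)))

theorem K_eq : K₀ = Subgroup.centralizer (T₀ : Set X₀) := by
  rw [K₀, fixer_eq_centralizer, T₀, Subgroup.centralizer_closure, quad_subset, Set.image_image]
  congr 1
  ext x
  constructor
  · rintro ⟨i, hi, rfl⟩
    rcases hi with rfl | rfl | rfl | rfl
    · exact ⟨0, rfl⟩
    · exact ⟨1, rfl⟩
    · exact ⟨2, rfl⟩
    · exact ⟨3, rfl⟩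
  · rintro ⟨k, rfl⟩
    exact ⟨fourIdx k, by fin_cases k <;> simp [fourIdx], rfl⟩

theorem T_le_centralizer : T₀ ≤ Subgroup.centralizer (B₀ : Set X₀) := by
  rw [T₀, Subgroup.closure_le]
  rintro _ ⟨k, rfl⟩
  rw [SetLike.mem_coe, Subgroup.mem_centralizer_iff]
  intro y hy
  obtain ⟨j, rfl⟩ := hy
  have h : Commute b₀ (trp (sixPt (fourIdx k))) := commute_trp_fix.2 (b_fix_six _)
  exact h.zpow_left j

/-- The image of the group of the two pairs. -/
noncomputable def imgT : Subgroup (Equiv.Perm (Fin 6)) :=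
  (T₀.subgroupOf N₀).map sixHom

theorem T_le_N : T₀ ≤ N₀ := T_le_centralizer.trans (Subgroup.centralizer_le_normalizer _)

theorem card_imgT : Nat.card imgT = 36 ∧ ∀ s, s ∈ imgT ↔ Keep s := by
  classical
  have hgen : ∀ k, fourPerm k ∈ imgT := by
    intro k
    have hm : trp (sixPt (fourIdx k)) ∈ T₀ := Subgroup.subset_closure ⟨k, rfl⟩
    refine ⟨⟨_, T_le_N hm⟩, hm, Equiv.ext fun i => sixPt_injective ((sixHom_spec _ i).symm.trans ?_)⟩
    obtain ⟨h', -⟩ := six_checks (fourIdx k)
    simp only [Bool.and_eq_true, Nat.beq_eq] at h'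
    refine Fin.ext ((rho_trp_val (allBelow_spec h'.1.1) (p := sixPt (fourIdx k)) h'.1.2.symm _).trans ?_)
    exact Nat.eq_of_beq_eq_true (four_checks k i)
  have hopt : ∀ a : Fin 5, (Fin.cons 1 fourPerm : Fin 5 → _) a ∈ imgT := by
    intro a
    refine Fin.cases ?_ (fun k => ?_) a
    · simp only [Fin.cons_zero]; exact one_mem _
    · simp only [Fin.cons_succ]; exact hgen k
  have hk : ∀ s, Keep s → s ∈ imgT := by
    intro s hs
    obtain ⟨a, b, c, d, e, f, rfl⟩ := keep_words _ _ s hs rfl rfl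
    exact mul_mem (mul_mem (mul_mem (mul_mem (mul_mem (hopt a) (hopt b)) (hopt c)) (hopt d)) (hopt e)) (hopt f)
  let KeepG : Subgroup (Equiv.Perm (Fin 6)) :=
    { carrier := {s | Keep s}
      one_mem' := fun i => rfl
      mul_mem' := fun {s t} hs ht i => (hs (t i)).trans (ht i)
      inv_mem' := fun {s} hs i => by
        have e := hs (s⁻¹ i)
        rw [show s (s⁻¹ i) = i from s.apply_symm_apply i] at e
        exact e.symm }
  have hle : imgT ≤ KeepG := by
    rintro s ⟨⟨x, hxN⟩, hx, rfl⟩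
    have hT : T₀ ≤ (KeepG.comap sixHom).map N₀.subtype := by
      rw [T₀, Subgroup.closure_le]
      rintro _ ⟨k, rfl⟩
      obtain ⟨y, hy, e⟩ := hgen k
      refine ⟨⟨trp (sixPt (fourIdx k)), T_le_N (Subgroup.subset_closure ⟨k, rfl⟩)⟩, ?_, rfl⟩
      show Keep (sixHom _)
      intro i
      have e2 : sixPt (sixHom ⟨trp (sixPt (fourIdx k)), T_le_N (Subgroup.subset_closure ⟨k, rfl⟩)⟩ i) =
          sixPt (fourPerm k i) := by
        rw [← sixHom_spec]
        obtain ⟨h', -⟩ := six_checks (fourIdx k)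
        simp only [Bool.and_eq_true, Nat.beq_eq] at h'
        refine Fin.ext ((rho_trp_val (allBelow_spec h'.1.1) (p := sixPt (fourIdx k)) h'.1.2.symm _).trans ?_)
        exact Nat.eq_of_beq_eq_true (four_checks k i)
      rw [sixPt_injective e2]
      exact (show ∀ k i, ((fourPerm k i).1 / 3 = i.1 / 3) by decide) k i
    obtain ⟨y, hy, e⟩ := hT hx
    obtain rfl : y = ⟨x, hxN⟩ := Subtype.ext e
    exact hy
  have hiff : ∀ s, s ∈ imgT ↔ Keep s := fun s => ⟨fun h => hle h, hk s⟩
  refine ⟨?_, hiff⟩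
  rw [Nat.card_congr (Equiv.subtypeEquivRight hiff), Nat.card_eq_fintype_card, Fintype.card_subtype]
  exact counts.2

theorem card_image_le (S : Subgroup N₀) : Nat.card (S.map sixHom) ≤ 72 := by
  classical
  refine le_trans (Nat.card_le_card_of_injective (β := {s : Equiv.Perm (Fin 6) // Good s})
    (fun s => ⟨s.1, by obtain ⟨n, -, e⟩ := s.2; exact e ▸ keeps_com n⟩)
    fun s t h => Subtype.ext (Subtype.mk.inj h)) ?_
  rw [Nat.card_eq_fintype_card, Fintype.card_subtype, counts.1]

theorem card_map_mul (S : Subgroup N₀) :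
    Nat.card S = Nat.card (S.map sixHom) * Nat.card (S ⊓ sixHom.ker : Subgroup N₀) := by
  have hr : (sixHom.comp S.subtype).range = S.map sixHom := by
    rw [MonoidHom.range_eq_map, ← Subgroup.map_map, ← MonoidHom.range_eq_map, Subgroup.range_subtype]
  have e : (sixHom.comp S.subtype).ker ≃ (S ⊓ sixHom.ker : Subgroup N₀) :=
    { toFun := fun x => ⟨x.1.1, x.1.2, x.2⟩
      invFun := fun x => ⟨⟨x.1, x.2.1⟩, x.2.2⟩
      left_inv := fun x => rfl
      right_inv := fun x => rfl }
  rw [← Subgroup.card_mul_index (sixHom.comp S.subtype).ker, Subgroup.index_ker, hr, Nat.card_congr e, mul_comm]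

/-- The exchanging element. -/
noncomputable def n₀ : X₀ := el nWord

theorem n_lt : ∀ a ∈ nWord, a < 12 := by decide +kernel

theorem squaring : n₀ * b₀ * n₀⁻¹ = b₀ ^ 2 := by
  have h : el (nWord ++ bWord ++ nWord.reverse ++ (bWord ++ bWord).reverse) = 1 :=
    el_one (show ∀ a ∈ nWord ++ bWord ++ nWord.reverse ++ (bWord ++ bWord).reverse, a < 12 by decide +kernel)
      (by decide +kernel)
  simp only [el, ev_append] at h
  rw [show ev (presGen 12 relsX) nWord.reverse = n₀⁻¹ from el_reverse nWord,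
    show ev (presGen 12 relsX) (bWord ++ bWord).reverse = (el (bWord ++ bWord))⁻¹ from el_reverse _,
    mul_inv_eq_one] at h
  rw [n₀, b₀, el, pow_two, ← ev_append]
  exact h

/-- The centralizer inside the normalizer. -/
noncomputable def C₀ : Subgroup N₀ := (Subgroup.centralizer (B₀ : Set X₀)).subgroupOf N₀

theorem card_C_eq : Nat.card C₀ = Nat.card (Subgroup.centralizer (B₀ : Set X₀)) :=
  Nat.card_congr (Subgroup.subgroupOfEquivOfLe (Subgroup.centralizer_le_normalizer _)).toEquiv

theorem ker_C : Nat.card (C₀ ⊓ sixHom.ker : Subgroup N₀) = 13 := by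
  rw [show (13 : ℕ) = Nat.card B₀ by rw [B₀, Nat.card_zpowers, order_b]]
  refine Nat.card_congr
    { toFun := fun x => ⟨(x.1 : X₀), centralizer_in_K ((ker_iff x.1).1 x.2.2)
        ((Subgroup.mem_centralizer_iff.1 x.2.1 b₀ (Subgroup.mem_zpowers b₀)).symm)⟩
      invFun := fun x => ⟨⟨x.1, Subgroup.le_normalizer x.2⟩, ?_, ?_⟩
      left_inv := fun x => rfl
      right_inv := fun x => rfl }
  · show (x : X₀) ∈ Subgroup.centralizer (B₀ : Set X₀)
    rw [Subgroup.mem_centralizer_iff]
    obtain ⟨_, i, rfl⟩ := x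
    rintro y ⟨j, rfl⟩
    exact (Commute.refl b₀).zpow_zpow j i
  · refine (ker_iff _).2 ?_
    exact Subgroup.zpowers_le.2 b_mem_K x.2

theorem imgT_le : imgT ≤ C₀.map sixHom :=
  Subgroup.map_mono fun _ hx => T_le_centralizer hx

/-- Orders of the centralizer and the normalizer. -/
theorem card_local : Nat.card N₀ = 5616 ∧ Nat.card (Subgroup.centralizer (B₀ : Set X₀)) = 468 := by
  haveI : Fact (Nat.Prime 13) := ⟨by norm_num⟩
  haveI := finite_X
  have h1 : Nat.card C₀ = Nat.card (C₀.map sixHom) * 13 := by rw [card_map_mul C₀, ker_C]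
  have hdiv : 36 ∣ Nat.card (C₀.map sixHom) := card_imgT.1 ▸ Subgroup.card_dvd_of_le imgT_le
  have hle := card_image_le C₀
  have hpos : 0 < Nat.card (C₀.map sixHom) := Nat.card_pos
  have hN : Nat.card N₀ = 12 * Nat.card C₀ := by
    rw [card_C_eq]
    exact card_normalizer_of_primitive (p := 13) (r := 2) order_b squaring (by
      intro i h1 h2
      interval_cases i <;> decide)
  have hcase : Nat.card (C₀.map sixHom) = 36 ∨ Nat.card (C₀.map sixHom) = 72 := by omega
  rcases hcase with h | h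
  · exact ⟨by rw [hN, h1, h], by rw [← card_C_eq, h1, h]⟩
  · exfalso
    obtain ⟨P, hP⟩ : ∃ P : Sylow 13 X₀, (P : Subgroup X₀) = B₀ := by
      have hB : Nat.card B₀ = 13 := by rw [B₀, Nat.card_zpowers, order_b]
      obtain ⟨P, hP⟩ := (IsPGroup.of_card (n := 1) (G := B₀) (by rw [hB, pow_one])).exists_le_sylow
      refine ⟨P, (Subgroup.eq_of_le_of_card_ge hP ?_).symm⟩
      obtain ⟨k, hk⟩ := (P.isPGroup').exists_card_eq
      rw [hB, hk]
      have hd : 13 ^ k ∣ Nat.card X₀ := hk ▸ Subgroup.card_subgroup_dvd_card _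
      have hk1 : k ≤ 1 := by
        by_contra h'
        have := (pow_dvd_pow 13 (show 2 ≤ k by omega)).trans hd
        rw [card_X all_points all_phi all_roots] at this
        norm_num at this
      exact (Nat.pow_le_pow_right (by norm_num) hk1).trans_eq (pow_one _)
    have hs := card_sylow_modEq_one 13 X₀
    have hP' : (P : Set X₀) = (B₀ : Set X₀) := congrArg (fun H : Subgroup X₀ => (H : Set X₀)) hP
    rw [P.card_eq_index_normalizer, hP'] at hs
    have hidx := Subgroup.index_mul_card N₀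
    rw [hN, h1, h, card_X all_points all_phi all_roots] at hidx
    have e : N₀.index = 2 * 1255205709190661721292800 / 11232 := by omega
    unfold N₀ at e
    rw [e] at hs
    revert hs
    decide

end CfsgLib.Spor.M24Model.Thirteen
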