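/-
The subgroups of order 13 in every group of type M(24).
-/
import Cfsg.Agent.Lib.Spor.M24Model.Transfer
import Cfsg.Agent.Lib.Spor.M24Model.Thirteen.Normalizer

set_option autoImplicit false

namespace CfsgLib.Spor.M24Model.Thirteen

open CfsgLib.Spor.TC CfsgLib.Spor.Fi24 CfsgLib.Spor.Fi24Class CfsgLib.GTwoThree

set_option maxRecDepth 100000

theorem n_mem : n₀ ∈ N₀ := by
  haveI := finite_X
  have hmap : B₀.map (MulAut.conj n₀).toMonoidHom = B₀ := by
    refine Subgroup.eq_of_le_of_card_ge ?_ ?_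
    · rw [B₀, MonoidHom.map_zpowers, Subgroup.zpowers_le]
      show n₀ * b₀ * n₀⁻¹ ∈ _
      rw [squaring]
      exact Subgroup.pow_mem _ (Subgroup.mem_zpowers b₀) 2
    · rw [Subgroup.card_map_of_injective (MulAut.conj n₀).injective]
  rw [N₀, Subgroup.mem_normalizer_iff]
  intro x
  constructor
  · intro hx
    rw [← hmap]
    exact ⟨x, hx, rfl⟩
  · intro hx
    rw [← hmap] at hx
    obtain ⟨y, hy, e⟩ := hx
    simp only [MulEquiv.coe_toMonoidHom, MulAut.conj_apply] at e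
    rwa [← mul_left_cancel (mul_right_cancel e)]

theorem swap_check : 6 ≤ (3965 : ℕ) ∧ walk nWord 0 = 305125 := ⟨by norm_num, by decide +kernel⟩

theorem card_image : Nat.card ((⊤ : Subgroup N₀).map sixHom) = 72 := by
  haveI := finite_X
  have hle := card_image_le (⊤ : Subgroup N₀)
  have himg : imgT ≤ (⊤ : Subgroup N₀).map sixHom := Subgroup.map_mono le_top
  have hdiv : 36 ∣ Nat.card ((⊤ : Subgroup N₀).map sixHom) := card_imgT.1 ▸ Subgroup.card_dvd_of_le himg
  have hne : Nat.card ((⊤ : Subgroup N₀).map sixHom) ≠ 36 := by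
    intro h
    have he : imgT = (⊤ : Subgroup N₀).map sixHom := Subgroup.eq_of_le_of_card_ge himg (by rw [h, card_imgT.1])
    have hk : Keep (sixHom ⟨n₀, n_mem⟩) := (card_imgT.2 _).1 (he ▸ ⟨_, trivial, rfl⟩)
    have hs := congrArg Fin.val (sixHom_spec ⟨n₀, n_mem⟩ 0)
    rw [show (rho ((⟨n₀, n_mem⟩ : N₀) : X₀) (sixPt 0) : ℕ) = walk nWord 0 from rho_el_val n_lt _,
      swap_check.2] at hs
    have h0 := hk 0
    generalize sixHom ⟨n₀, n_mem⟩ 0 = j at hs h0
    revert hs h0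
    revert j
    decide
  have hpos : 0 < Nat.card ((⊤ : Subgroup N₀).map sixHom) := Nat.card_pos
  omega

theorem card_ker : Nat.card sixHom.ker = 78 := by
  haveI := finite_X
  have h := card_map_mul (⊤ : Subgroup N₀)
  rw [card_image, Subgroup.card_top, card_local.1, top_inf_eq] at h
  omega

/-- The statements at the special subgroup. -/
theorem model_facts :
    N₀ ≤ Subgroup.normalizer (K₀ : Set X₀) ∧ Nat.card (K₀ ⊓ N₀ : Subgroup X₀) = 78 ∧
      K₀ ⊓ Subgroup.centralizer (B₀ : Set X₀) = B₀ ∧ (((K₀ ⊓ N₀) ⊔ T₀).subgroupOf N₀).index = 2 := by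
  haveI := finite_X
  have hker : (K₀ ⊓ N₀).subgroupOf N₀ = sixHom.ker := by
    ext n
    rw [Subgroup.mem_subgroupOf, MonoidHom.mem_ker, ker_iff]
    exact ⟨fun h => h.1, fun h => ⟨h, n.2⟩⟩
  refine ⟨?_, ?_, ?_, ?_⟩
  · intro n hn
    have hconj : ∀ m : N₀, ∀ k ∈ K₀, (m : X₀) * k * (m : X₀)⁻¹ ∈ K₀ := by
      intro m k hk p hp
      rw [quad_subset] at hp
      obtain ⟨i, -, rfl⟩ := hp
      have e : rho (m : X₀)⁻¹ (sixPt i) = sixPt (sixHom m⁻¹ i) := sixHom_spec m⁻¹ i
      rw [rho_mul, rho_mul, e, K_fix_six hk, sixHom_spec, ← Equiv.Perm.mul_apply, ← map_mul, mul_inv_cancel,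
        map_one, Equiv.Perm.one_apply]
    rw [Subgroup.mem_normalizer_iff]
    intro x
    refine ⟨hconj ⟨n, hn⟩ x, fun h => ?_⟩
    have h2 := hconj ⟨n, hn⟩⁻¹ _ h
    simpa [mul_assoc] using h2
  · rw [← Nat.card_congr (Subgroup.subgroupOfEquivOfLe (show K₀ ⊓ N₀ ≤ N₀ from inf_le_right)).toEquiv, hker,
      card_ker]
  · refine le_antisymm (fun x hx => ?_) (le_inf (Subgroup.zpowers_le.2 b_mem_K) ?_)
    · exact centralizer_in_K hx.1 ((Subgroup.mem_centralizer_iff.1 hx.2 b₀ (Subgroup.mem_zpowers b₀)).symm)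
    · rintro x ⟨i, rfl⟩
      rw [Subgroup.mem_centralizer_iff]
      rintro y ⟨j, rfl⟩
      exact (Commute.refl b₀).zpow_zpow j i
  · set S := ((K₀ ⊓ N₀) ⊔ T₀).subgroupOf N₀
    have hS : S = sixHom.ker ⊔ T₀.subgroupOf N₀ := by
      show ((K₀ ⊓ N₀) ⊔ T₀).subgroupOf N₀ = _
      rw [Subgroup.subgroupOf_sup inf_le_right T_le_N, hker]
    have hmap : S.map sixHom = imgT := by
      rw [hS, Subgroup.map_sup, imgT, (Subgroup.map_eq_bot_iff _).2 le_rfl, bot_sup_eq]
    have hk : S ⊓ sixHom.ker = sixHom.ker := inf_eq_right.2 (hS ▸ le_sup_left)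
    have hcard := card_map_mul S
    rw [hmap, hk, card_imgT.1, card_ker] at hcard
    have h := Subgroup.card_mul_index S
    rw [hcard, card_local.1] at h
    omega

/-- Transport along an isomorphism. -/
theorem facts_map {G : Type*} [Group G] (σ : X₀ ≃* G) {K B T : Subgroup G} (eK : K₀.map σ.toMonoidHom = K)
    (eB : B₀.map σ.toMonoidHom = B) (eT : T₀.map σ.toMonoidHom = T) :
    Subgroup.normalizer (B : Set G) ≤ Subgroup.normalizer (K : Set G) ∧
      Nat.card (K ⊓ Subgroup.normalizer (B : Set G) : Subgroup G) = 78 ∧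
      K ⊓ Subgroup.centralizer (B : Set G) = B ∧
      (((K ⊓ Subgroup.normalizer (B : Set G)) ⊔ T).subgroupOf (Subgroup.normalizer (B : Set G))).index = 2 := by
  subst eK eB eT
  obtain ⟨h1, h2, h3, h4⟩ := model_facts
  have hN : N₀.map σ.toMonoidHom = Subgroup.normalizer ((B₀.map σ.toMonoidHom : Subgroup G) : Set G) := Subgroup.map_equiv_normalizer_eq B₀ σ
  have hK : (Subgroup.normalizer (K₀ : Set X₀)).map σ.toMonoidHom = Subgroup.normalizer ((K₀.map σ.toMonoidHom : Subgroup G) : Set G) :=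
    Subgroup.map_equiv_normalizer_eq K₀ σ
  have hC : (Subgroup.centralizer (B₀ : Set X₀)).map σ.toMonoidHom =
      Subgroup.centralizer ((B₀.map σ.toMonoidHom : Subgroup G) : Set G) := by
    ext y
    constructor
    · rintro ⟨x, hx, rfl⟩
      rw [Subgroup.mem_centralizer_iff]
      rintro _ ⟨z, hz, rfl⟩
      rw [← map_mul, ← map_mul, Subgroup.mem_centralizer_iff.1 hx z hz]
    · intro hy
      refine ⟨σ.symm y, Subgroup.mem_centralizer_iff.2 fun z hz => σ.injective ?_, σ.apply_symm_apply y⟩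
      rw [map_mul, map_mul, σ.apply_symm_apply]
      exact Subgroup.mem_centralizer_iff.1 hy _ ⟨z, hz, rfl⟩
  refine ⟨hN ▸ hK ▸ Subgroup.map_mono h1, ?_, ?_, ?_⟩
  · rw [← hN, ← Subgroup.map_inf _ _ _ σ.injective, Subgroup.card_map_of_injective (f := σ.toMonoidHom) σ.injective, h2]
  · rw [← hC, ← Subgroup.map_inf _ _ _ σ.injective, h3]
  · rw [← hN, ← Subgroup.map_inf _ _ _ σ.injective, ← Subgroup.map_sup]
    exact (Subgroup.relIndex_map_map_of_injective _ _ σ.injective).trans h4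

/-- The statement in a group of type M(24). -/
theorem thirteen_of_equiv {G : Type*} [Group G] [Finite G] {D : Set G} (e : X₀ ≃* G) (hD : e '' cls = D) :
    (∀ X Y : Subgroup G, Nat.card X = 13 → Nat.card Y = 13 → ∃ g : G, X.map (MulAut.conj g).toMonoidHom = Y) ∧
    ∃ (a b c d : G) (T K : Subgroup G), (∀ x ∈ [a, b, c, d], x ∈ D) ∧ ¬ Commute a d ∧ ¬ Commute b c ∧
      Commute a b ∧ Commute a c ∧ Commute d b ∧ Commute d c ∧ T = Subgroup.closure ({a, b, c, d} : Set G) ∧
      K = Subgroup.centralizer (T : Set G) ∧ Nonempty (↥K ≃* G3) ∧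
      ∀ B : Subgroup G, B ≤ K → Nat.card B = 13 →
        Subgroup.normalizer ((B : Subgroup G) : Set G) ≤ Subgroup.normalizer ((K : Subgroup G) : Set G) ∧
        Nat.card ↥(K ⊓ Subgroup.normalizer ((B : Subgroup G) : Set G)) = 78 ∧
        K ⊓ Subgroup.centralizer ((B : Subgroup G) : Set G) = B ∧
        (((K ⊓ Subgroup.normalizer ((B : Subgroup G) : Set G)) ⊔ T).subgroupOf
          (Subgroup.normalizer ((B : Subgroup G) : Set G))).index = 2 := by
  haveI : Fact (Nat.Prime 13) := ⟨by norm_num⟩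
  haveI := finite_X
  constructor
  · intro X Y hX hY
    refine exists_conj_of_prime_card (p := 13) ?_ hX hY
    rw [← Nat.card_congr e.toEquiv, card_X all_points all_phi all_roots]
    norm_num
  set t : Fin 6 → G := fun i => e (trp (sixPt i))
  have hcom : ∀ i j, Commute (t i) (t j) ↔ com i j = true := by
    intro i j
    rw [← commute_six]
    constructor
    · intro h
      have h' := h.map e.symm.toMonoidHom
      simpa [t] using h'
    · intro h
      exact h.map e.toMonoidHom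
  have hmem : ∀ i, t i ∈ D := fun i => hD ▸ ⟨_, ⟨_, rfl⟩, rfl⟩
  have hT : T₀.map e.toMonoidHom = Subgroup.closure ({t 0, t 3, t 4, t 2} : Set G) := by
    rw [T₀, MonoidHom.map_closure]
    congr 1
    ext x
    constructor
    · rintro ⟨_, ⟨k, rfl⟩, rfl⟩
      fin_cases k
      · exact Or.inl rfl
      · exact Or.inr (Or.inr (Or.inr rfl))
      · exact Or.inr (Or.inl rfl)
      · exact Or.inr (Or.inr (Or.inl rfl))
    · rintro (rfl | rfl | rfl | rfl)
      · exact ⟨_, ⟨0, rfl⟩, rfl⟩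
      · exact ⟨_, ⟨2, rfl⟩, rfl⟩
      · exact ⟨_, ⟨3, rfl⟩, rfl⟩
      · exact ⟨_, ⟨1, rfl⟩, rfl⟩
  have hK : K₀.map e.toMonoidHom = Subgroup.centralizer ((T₀.map e.toMonoidHom : Subgroup G) : Set G) := by
    rw [K_eq]
    ext y
    constructor
    · rintro ⟨x, hx, rfl⟩
      rw [Subgroup.mem_centralizer_iff]
      rintro _ ⟨z, hz, rfl⟩
      rw [← map_mul, ← map_mul, Subgroup.mem_centralizer_iff.1 hx z hz]
    · intro hy
      refine ⟨e.symm y, Subgroup.mem_centralizer_iff.2 fun z hz => e.injective ?_, e.apply_symm_apply y⟩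
      rw [map_mul, map_mul, e.apply_symm_apply]
      exact Subgroup.mem_centralizer_iff.1 hy _ ⟨z, hz, rfl⟩
  obtain ⟨f⟩ := K_iso
  refine ⟨t 0, t 3, t 4, t 2, T₀.map e.toMonoidHom, K₀.map e.toMonoidHom, ?_, ?_, ?_, (hcom _ _).2 rfl,
    (hcom _ _).2 rfl, (hcom _ _).2 rfl, (hcom _ _).2 rfl, hT, hK, ⟨(e.subgroupMap K₀).symm.trans f⟩, ?_⟩
  · intro x hx
    simp only [List.mem_cons, List.not_mem_nil, or_false] at hx
    rcases hx with rfl | rfl | rfl | rfl <;> exact hmem _
  · rw [hcom]; decide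
  · rw [hcom]; decide
  intro B hB hcard
  obtain ⟨C, hCK, rfl⟩ : ∃ C : Subgroup X₀, C ≤ K₀ ∧ C.map e.toMonoidHom = B := by
    refine ⟨B.comap e.toMonoidHom, fun x hx => ?_, Subgroup.map_comap_eq_self_of_surjective e.surjective B⟩
    obtain ⟨y, hy, h⟩ := hB hx
    exact e.injective h ▸ hy
  rw [Subgroup.card_map_of_injective (f := e.toMonoidHom) e.injective] at hcard
  obtain ⟨g, hg⟩ := exists_conj_of_prime_card (p := 13) (by rw [card_K]; norm_num) (A := B₀.subgroupOf K₀)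
    (B := C.subgroupOf K₀)
    (by rw [Nat.card_congr (Subgroup.subgroupOfEquivOfLe (show B₀ ≤ K₀ from Subgroup.zpowers_le.2 b_mem_K)).toEquiv, B₀,
      Nat.card_zpowers, order_b])
    (by rw [Nat.card_congr (Subgroup.subgroupOfEquivOfLe hCK).toEquiv, hcard])
  set σ : X₀ ≃* G := (MulAut.conj (g : X₀)).trans e
  have hσ : ∀ H : Subgroup X₀, H.map σ.toMonoidHom = (H.map (MulAut.conj (g : X₀)).toMonoidHom).map e.toMonoidHom :=
    fun H => by rw [Subgroup.map_map]; rfl
  have hb : B₀.map (MulAut.conj (g : X₀)).toMonoidHom = C := by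
    have h := congrArg (Subgroup.map K₀.subtype) hg
    rw [Subgroup.map_map, Subgroup.subgroupOf_map_subtype, inf_eq_left.2 hCK] at h
    rw [← h, show K₀.subtype.comp (MulAut.conj g).toMonoidHom =
      (MulAut.conj (g : X₀)).toMonoidHom.comp K₀.subtype from MonoidHom.ext fun x => rfl, ← Subgroup.map_map,
      Subgroup.subgroupOf_map_subtype, inf_eq_left.2 (show B₀ ≤ K₀ from Subgroup.zpowers_le.2 b_mem_K)]
  have hKg : K₀.map (MulAut.conj (g : X₀)).toMonoidHom = K₀ := by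
    ext x
    constructor
    · rintro ⟨y, hy, rfl⟩
      exact K₀.mul_mem (K₀.mul_mem g.2 hy) (K₀.inv_mem g.2)
    · intro hx
      exact ⟨(g : X₀)⁻¹ * x * g, K₀.mul_mem (K₀.mul_mem (K₀.inv_mem g.2) hx) g.2, by simp [mul_assoc]⟩
  have hTg : T₀.map (MulAut.conj (g : X₀)).toMonoidHom = T₀ := by
    have hgT : ∀ y ∈ T₀, (g : X₀) * y * (g : X₀)⁻¹ = y := by
      intro y hy
      have h : (g : X₀) ∈ Subgroup.centralizer (T₀ : Set X₀) := by rw [← K_eq]; exact g.2
      rw [Subgroup.mem_centralizer_iff] at h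
      rw [← h y hy, mul_inv_cancel_right]
    ext x
    constructor
    · rintro ⟨y, hy, rfl⟩
      show (g : X₀) * y * (g : X₀)⁻¹ ∈ T₀
      rw [hgT y hy]; exact hy
    · intro hx
      exact ⟨x, hx, hgT x hx⟩
  exact facts_map σ ((hσ _).trans (by rw [hKg])) ((hσ _).trans (by rw [hb])) ((hσ _).trans (by rw [hTg]))

end CfsgLib.Spor.M24Model.Thirteen
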